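import Cfsg.Agent.Schur.Bridge
import Cfsg.Agent.Golay.Simple

/-!
Permutation groups on a numbered finite type as groups of networks.
-/

set_option autoImplicit false

namespace Cfsg.Agent.Schur

open Cfsg.Agent.Comp Cfsg.Agent.Golay Subgroup

variable {α : Type} {n : ℕ}

/-- the numbering as a bijection -/
def encEquiv (E : Enc α n) : α ≃ {i : ℕ // i < n} where
  toFun a := ⟨E.enc a, E.enc_lt a⟩
  invFun i := E.dec i
  left_inv a := E.dec_enc a
  right_inv i := Subtype.ext (E.enc_dec i i.2)

/-- permutations of a numbered type as permutations of the numbers -/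
def encHom (E : Enc α n) : Equiv.Perm α →* Equiv.Perm ℕ :=
  Equiv.Perm.extendDomainHom (encEquiv E)

theorem encHom_injective (E : Enc α n) : Function.Injective (encHom E) :=
  Equiv.Perm.extendDomainHom_injective _

theorem encHom_lt (E : Enc α n) (g : Equiv.Perm α) {i : ℕ} (h : i < n) :
    encHom E g i = E.enc (g (E.dec i)) :=
  Equiv.Perm.extendDomain_apply_subtype g (encEquiv E) h

theorem encHom_ge (E : Enc α n) (g : Equiv.Perm α) {i : ℕ} (h : n ≤ i) : encHom E g i = i :=
  Equiv.Perm.extendDomain_apply_not_subtype g (encEquiv E) (not_lt.mpr h)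

/-- the networks of the table are the permutations with the codes `cs` -/
noncomputable def codeOK (n w : Nat) (T : List Net) (cs : List Nat) : Bool :=
  allN (fun x => allN (fun i => Nat.beq (Nat.land (Nat.shiftRight
    (runW (nat_lit 1) T [x] (Comp.pt (Golay.get w (nth (nat_lit 0) cs x) i))) i) (nat_lit 1)) (nat_lit 1)) n)
    cs.length

theorem rep_of_gen [DecidableEq α] (E : Enc α n) {w : ℕ} (hw : n ≤ 2 ^ w)
    {H : Subgroup (Equiv.Perm α)} {cs : List ℕ} (hgen : Gen (E.pcode w) H cs) {T : List Net}
    (hT : TOK n T) {L : ℕ} (hL : cs.length = L) (hc : codeOK n w T cs = true) :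
    ∃ s : ℕ → H, Rep s L n T ((encHom E).comp H.subtype) := by
  subst hL
  have h1 : ∀ x : ℕ, ∃ g : H, x < cs.length → E.pcode w g = nth 0 cs x := by
    intro x
    by_cases hx : x < cs.length
    · obtain ⟨g, hg, e⟩ := hgen.1 _ (List.getElem_mem hx)
      exact ⟨⟨g, hg⟩, fun _ => by rw [nth_eq, List.getD_eq_getElem _ _ hx]; exact e⟩
    · exact ⟨1, fun h => absurd h hx⟩
  choose s hs using h1
  refine ⟨s, ?_, hT, fun x hx => ?_⟩
  · refine hgen.eq_top _ fun g hg => ?_
    obtain ⟨i, hi, e⟩ := List.getElem_of_mem hg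
    have : s i = g := Subtype.ext (E.pcode_injective hw (by
      rw [hs i hi, nth_eq, List.getD_eq_getElem _ _ hi, e]))
    rw [← this]
    exact letter_mem_gen hi
  · ext i
    rcases Nat.lt_or_ge i n with hi | hi
    · have := apply_eq_of hT hi ((allN_eq _ _).mp ((allN_eq _ _).mp hc x hx) i hi)
      rw [ev_single] at this
      rw [this, MonoidHom.comp_apply, encHom_lt E _ hi, ← E.get_pcode hw _ hi]
      exact congrArg (fun c => Golay.get w c i) (hs x hx)
    · rw [MonoidHom.comp_apply, encHom_ge E _ hi, hT.sig_mem x i hi]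

theorem encHom_sub_injective (E : Enc α n) (H : Subgroup (Equiv.Perm α)) :
    Function.Injective ((encHom E).comp H.subtype) :=
  (encHom_injective E).comp Subtype.val_injective

end Cfsg.Agent.Schur
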