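import Cfsg.Agent.Schur.Swap
import Cfsg.Agent.Comp.Sign

/-!
Elements of a large permutation group followed on a small set of points that contains a base.
-/

set_option autoImplicit false

namespace Cfsg.Agent.Schur

open Cfsg.Agent.Comp Subgroup MulAction

/-- the permutations that fix the points of `B` -/
def Fx (B : List ℕ) : Subgroup (Equiv.Perm ℕ) where
  carrier := {σ | ∀ b ∈ B, σ b = b}
  mul_mem' := fun {a b} ha hb i hi => by rw [Equiv.Perm.mul_apply, hb i hi, ha i hi]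
  one_mem' := fun _ _ => rfl
  inv_mem' := fun {a} ha i hi => by rw [Equiv.Perm.inv_eq_iff_eq, ha i hi]

/-- the stabiliser of `B` has index at least `m` in every finite group above `K` -/
def ChainB (K : Subgroup (Equiv.Perm ℕ)) (B : List ℕ) (m : ℕ) : Prop :=
  ∀ H : Subgroup (Equiv.Perm ℕ), Finite H → K ≤ H → m * Nat.card ↥(H ⊓ Fx B) ≤ Nat.card H

theorem chainB_base (K : Subgroup (Equiv.Perm ℕ)) : ChainB K [] 1 := fun H _ _ => by
  rw [one_mul]; exact card_le_of_le inf_le_left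

theorem chainB_step {N : ℕ} {T : List Net} (hT : TOK N T) {W W' : List (List ℕ)} {b n m : ℕ}
    {B : List ℕ} (hfix : invS T W' (pt b) = true) (hle : genW (sig T) W' ≤ genW (sig T) W)
    (horb : n ≤ (orbit (genW (sig T) W) b).ncard) (hm : ChainB (genW (sig T) W') B m) :
    ChainB (genW (sig T) W) (b :: B) (n * m) := fun H hH hK => by
  have : Finite ↥(H ⊓ stabilizer (Equiv.Perm ℕ) b) :=
    Finite.of_injective _ (inclusion_injective inf_le_left)
  have h1 := hm (H ⊓ stabilizer (Equiv.Perm ℕ) b) this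
    (le_inf (hle.trans hK) fun g hg => fix_of_invS hT hfix hg)
  have h2 : H ⊓ stabilizer (Equiv.Perm ℕ) b ⊓ Fx B = H ⊓ Fx (b :: B) := by
    ext g
    exact ⟨fun h => ⟨h.1.1, List.forall_mem_cons.mpr ⟨h.1.2, h.2⟩⟩,
      fun h => ⟨⟨h.1, (List.forall_mem_cons.mp h.2).1⟩, (List.forall_mem_cons.mp h.2).2⟩⟩
  rw [mul_assoc, ← h2]
  refine card_ge_step (b := b) (K' := H ⊓ stabilizer (Equiv.Perm ℕ) b) inf_le_left
    (fun g hg => hg.2) (horb.trans (Set.ncard_le_ncard ?_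
    (Set.finite_range _))) h1
  rintro _ ⟨g, rfl⟩
  exact ⟨⟨g, hK g.2⟩, rfl⟩

/-- only the identity fixes the points of `B` -/
def IsBase {G : Type*} [Group G] (φ : G →* Equiv.Perm ℕ) (B : List ℕ) : Prop :=
  ∀ g, φ g ∈ Fx B → g = 1

theorem isBase_of_chain {G : Type*} [Group G] [Finite G] {φ : G →* Equiv.Perm ℕ}
    (hinj : Function.Injective φ) {K : Subgroup (Equiv.Perm ℕ)} {B : List ℕ} {m : ℕ}
    (h : ChainB K B m) (hK : K ≤ φ.range) (hm : Nat.card G = m) : IsBase φ B := fun g hg => by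
  have e := MonoidHom.ofInjective hinj
  have : Finite φ.range := .of_equiv _ e.toEquiv
  have h1 := h _ this hK
  rw [← Nat.card_congr e.toEquiv, hm] at h1
  have h2 : 0 < m := hm ▸ Nat.card_pos
  have : Finite ↥(φ.range ⊓ Fx B) := Finite.of_injective _ (inclusion_injective inf_le_left)
  have h3 : φ.range ⊓ Fx B = ⊥ := eq_bot_of_card_le _ (by nlinarith)
  have h4 : φ g ∈ φ.range ⊓ Fx B := ⟨⟨g, rfl⟩, hg⟩
  rw [h3, mem_bot, ← map_one φ] at h4
  exact hinj h4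

theorem IsBase.sub {G : Type*} [Group G] {φ : G →* Equiv.Perm ℕ} {B : List ℕ} (h : IsBase φ B)
    (K : Subgroup G) : IsBase (φ.comp K.subtype) B := fun g hg => Subtype.ext (h g hg)

/-- bit `k` of `j + 1` for the points `j < m` -/
noncomputable def cpl (m B k : Nat) : Nat := Nat.shiftRight (plane (Nat.succ m) B k) (nat_lit 1)

/-- the code of a point -/
def cod (m j : ℕ) : ℕ := if j < m then j + 1 else 0

theorem testBit_cpl {m B k : ℕ} (hm : m < 2 ^ B) (hk : k < B) (j : ℕ) :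
    (cpl m B k).testBit j = (cod m j).testBit k := by
  change (plane (m + 1) B k >>> 1).testBit j = _
  rw [Nat.testBit_shiftRight, add_comm 1 j, cod]
  split_ifs with h
  · exact testBit_plane hm hk (Nat.succ_lt_succ h)
  · rw [Nat.zero_testBit]
    exact Nat.testBit_lt_two_pow ((plane_lt _ _ _).trans_le (Nat.pow_le_pow_right two_pos (by omega)))

theorem eq_of_cod {m B i j : ℕ} (hm : m < 2 ^ B) (hj : j < m)
    (h : ∀ k < B, (cod m i).testBit k = (cod m j).testBit k) : i = j := by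
  have h1 : ∀ i, cod m i < 2 ^ B := fun i => by
    unfold cod; split_ifs <;> omega
  have h2 : cod m i = cod m j := Nat.eq_of_testBit_eq fun k => by
    rcases Nat.lt_or_ge k B with hk | hk
    · exact h k hk
    · rw [Nat.testBit_lt_two_pow ((h1 i).trans_le (Nat.pow_le_pow_right two_pos hk)),
        Nat.testBit_lt_two_pow ((h1 j).trans_le (Nat.pow_le_pow_right two_pos hk))]
  unfold cod at h2
  split_ifs at h2
  omega

/-- the words `u` of the table `T` and `w` of the table `S` agree on the set `a` in bit `k` -/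
noncomputable def trP (m B : Nat) (T S : List Net) (u w : List Nat) (a k : Nat) : Bool :=
  frc (cpl m B k) fun I =>
    Nat.beq (Nat.land (runW (nat_lit 1) T u I) a) (Nat.land (runW (nat_lit 1) S w I) a)

/-- the check `trP` in the bits `k₀ ≤ k < k₁` -/
def TrP (m B : ℕ) (T S : List Net) (u w : List ℕ) (a k₀ k₁ : ℕ) : Prop :=
  ∀ k, k₀ ≤ k → k < k₁ → trP m B T S u w a k = true

theorem TrP.of {m B : ℕ} {T S : List Net} {u w : List ℕ} {a k₀ k₁ : ℕ} (K : ℕ) (hk : k₁ = k₀ + K)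
    (h : allN (fun t => trP m B T S u w a (Nat.add k₀ t)) K = true) : TrP m B T S u w a k₀ k₁ :=
  fun k h1 h2 => by
    obtain ⟨t, rfl⟩ := Nat.exists_eq_add_of_le h1
    exact (allN_eq _ _).mp h t (by omega)

theorem TrP.join {m B : ℕ} {T S : List Net} {u w : List ℕ} {a k₀ k₁ k₂ : ℕ}
    (h : TrP m B T S u w a k₀ k₁) (h' : TrP m B T S u w a k₁ k₂) : TrP m B T S u w a k₀ k₂ :=
  fun k h1 h2 => (Nat.lt_or_ge k k₁).elim (h k h1) fun h3 => h' k h3 h2

theorem TrP.eq {N m B : ℕ} {T S : List Net} {u w : List ℕ} {a : ℕ} (h : TrP m B T S u w a 0 B)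
    (hT : TOK N T) (hS : TOK m S) (hm : m ≤ N ∧ m < 2 ^ B) {j : ℕ} (hj : j < m)
    (ha : a.testBit j = true) : ev (sig T) u j = ev (sig S) w j := by
  refine eq_of_cod hm.2 (Bd.lt (hS.ev_mem w) hj) fun k hk => ?_
  have h1 := h k (Nat.zero_le k) hk
  unfold trP at h1
  rw [frc_eq] at h1
  have h2 := congrArg (·.testBit j) (Nat.eq_of_beq_eq_true h1)
  simp only [Nat.land_eq, Nat.testBit_and, ha, Bool.and_true] at h2
  rwa [testBit_runW1 hT _ _ (hj.trans_le hm.1), testBit_runW1 hS _ _ hj, testBit_cpl hm.2 hk,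
    testBit_cpl hm.2 hk] at h2

variable {G : Type*} [Group G]

/-- `x` acts on the points `r j`, `j ∈ a`, as `σ` on the `j` -/
def Trk (φ : G →* Equiv.Perm ℕ) (r : Equiv.Perm ℕ) (m a : ℕ) (x : G) (σ : Equiv.Perm ℕ) : Prop :=
  ∀ j < m, a.testBit j = true → φ x (r j) = r (σ j)

/-- the word `u` between two letters `0` -/
def cjw (u : List ℕ) : List ℕ := 0 :: (u.map (· + 1) ++ [0])

theorem exists_trk {φ : G →* Equiv.Perm ℕ} {N m B : ℕ} {ρ : Net} {T S : List Net}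
    (hT : TOK N (ρ :: T)) (hS : TOK m S) (hm : m ≤ N ∧ m < 2 ^ B)
    (hρ : TrP m B (ρ :: T) S [0, 0] [] (ivl 0 m) 0 B) {u : List ℕ}
    (hu : ev (sig T) u ∈ φ.range) {i a : ℕ} (h : TrP m B (ρ :: T) S (cjw u) [i] a 0 B) :
    ∃ x, Trk φ ρ.perm m a x (sig S i) := by
  obtain ⟨x, hx⟩ := hu
  refine ⟨x, fun j hj ha => ?_⟩
  have h1 := h.eq hT hS hm hj ha
  have h2 := hρ.eq hT hS hm (Bd.lt (hS.sig_mem i) hj)
    (by rw [testBit_ivl]; simpa using Bd.lt (hS.sig_mem i) hj)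
  have e0 : sig (ρ :: T) 0 = ρ.perm := rfl
  have e1 : (fun x => sig (ρ :: T) (x + 1)) = sig T := rfl
  simp only [cjw, ev_cons, ev_append, ev_map, ev_nil, mul_one, e0, e1, Equiv.Perm.mul_apply,
    Equiv.Perm.one_apply] at h1 h2
  rw [hx]
  exact ρ.perm.injective (h1.trans h2.symm)

/-- pairs of an element and its action on the small set -/
def trkSub (φ : G →* Equiv.Perm ℕ) (r : Equiv.Perm ℕ) (m : ℕ) : Subgroup (G × Equiv.Perm ℕ) where
  carrier := {x | x.2 ∈ Bd m ∧ ∀ j < m, φ x.1 (r j) = r (x.2 j)}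
  mul_mem' := fun {a b} ha hb => ⟨mul_mem ha.1 hb.1, fun j hj => by
    rw [Prod.fst_mul, map_mul, Equiv.Perm.mul_apply, hb.2 j hj, ha.2 _ (Bd.lt hb.1 hj)]; rfl⟩
  one_mem' := ⟨one_mem _, fun j _ => by simp⟩
  inv_mem' := fun {a} ha => ⟨inv_mem ha.1, fun j hj => by
    rw [Prod.fst_inv, Prod.snd_inv, map_inv, Equiv.Perm.inv_eq_iff_eq,
      ha.2 _ (Bd.lt (inv_mem ha.1) hj)]; simp⟩

/-- the check of a conjugation relation on the set `A g` -/
noncomputable def stB (m B : Nat) (S : List Net) (A : List Nat)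
    (e : Nat × List Nat × List Nat) : Bool :=
  frc (nth (nat_lit 0) A e.1) fun a => band (invS S [e.2.1] a)
    (allN (trP m B S S (e.1 :: e.2.1) (e.2.2 ++ [e.1]) a) B)

theorem card_gen_map {H : Type*} [Group H] {t : ℕ → G} {n : ℕ} {K : Subgroup G} (h : gen t n ≤ K)
    (f : G →* H) (hf : ∀ x ∈ K, f x = 1 → x = 1) :
    Nat.card (gen (fun i => f (t i)) n) = Nat.card (gen t n) := by
  rw [gen, ← map_genW, ← range_subtype (genW t _), MonoidHom.map_range]
  exact (Nat.card_congr (MonoidHom.ofInjective ((injective_iff_map_eq_one _).mpr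
    fun x hx => Subtype.ext (hf x (h x.2) hx))).toEquiv).symm

theorem lift_delta {φ : G →* Equiv.Perm ℕ} {r : Equiv.Perm ℕ} {m B n : ℕ} {S : List Net}
    (hS : TOK m S) (hm : m < 2 ^ B) {B₀ : List ℕ} (hB : IsBase φ B₀) {B₁ : List ℕ}
    (hB₁ : ∀ b ∈ B₀, ∃ j ∈ B₁, r j = b) {D₁ : List ℕ}
    (h₁ : ∀ i ∈ D₁, ∃ x, Trk φ r m (ivl 0 m) x (sig S i)) {D : List (List ℕ × List ℕ)}
    (hD : ∀ e ∈ D, ev (sig S) e.1 = ev (sig S) e.2)
    (hd : defsOK n D (fun x => D₁.contains x) = true) {A : List ℕ} {k : ℕ}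
    (h₂ : ∀ i < k, ∃ x, Trk φ r m (nth 0 A (n + i)) x (sig S (n + i)))
    {E : List (List ℕ × List ℕ)} (hE : ∀ e ∈ E, ev (sig S) e.1 = ev (sig S) e.2)
    {Y : List (ℕ × List ℕ × List ℕ)} (hY : lall (stB m B S A) Y = true)
    (hc : (∀ j ∈ B₁, j < m) ∧ (∀ e ∈ E, (∀ x ∈ e.1, x < n) ∧ ∀ x ∈ e.2, x < n) ∧
      ∀ e ∈ Y, n ≤ e.1 ∧ e.1 < n + k ∧ (∀ x ∈ e.2.1, x < n) ∧ (∀ x ∈ e.2.2, x < n) ∧
        ∀ j ∈ B₁, (nth 0 A e.1).testBit j = true) :
    ∃ s : ℕ → G, (∀ e ∈ E ++ stEqs Y, ev s e.1 = ev s e.2) ∧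
      Nat.card (gen s n) = Nat.card (gen (sig S) n) := by
  let K := trkSub φ r m
  have h1 := mem_of_defsOK (K := K.map (MonoidHom.snd _ _)) hD _ (fun i hi => by
    obtain ⟨x, hx⟩ := h₁ i (by simpa using hi)
    exact ⟨(x, sig S i), ⟨hS.sig_mem i, fun j hj => hx j hj (by rw [testBit_ivl]; simpa)⟩, rfl⟩) hd
  have h2 : ∀ i, ∃ x : G, (i < n → (x, sig S i) ∈ K) ∧
      (n ≤ i → i < n + k → Trk φ r m (nth 0 A i) x (sig S i)) := fun i => by
    by_cases hi : i < n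
    · obtain ⟨⟨x, σ⟩, hx, rfl⟩ := h1 i hi
      exact ⟨x, fun _ => hx, fun h => by omega⟩
    · by_cases hi' : i < n + k
      · obtain ⟨t, rfl⟩ := Nat.exists_eq_add_of_le (not_lt.mp hi)
        obtain ⟨x, hx⟩ := h₂ t (by omega)
        exact ⟨x, fun h => absurd h hi, fun _ _ => hx⟩
      · exact ⟨1, fun h => absurd h hi, fun _ h => absurd h hi'⟩
  choose s hs hs' using h2
  let t : ℕ → G × Equiv.Perm ℕ := fun i => (s i, sig S i)
  have h3 : ∀ w : List ℕ, (∀ x ∈ w, x < n) → ∀ j < m, φ (ev s w) (r j) = r (ev (sig S) w j) :=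
    fun w hw => by
      have h := (ev_mem (s := t) (K := K) fun x hx => hs x (hw x hx)).2
      rwa [show (ev t w).1 = ev s w from map_ev t (MonoidHom.fst _ _) w,
        show (ev t w).2 = ev (sig S) w from map_ev t (MonoidHom.snd _ _) w] at h
  have h4 : ∀ x y : G, (∀ j ∈ B₁, φ x (r j) = φ y (r j)) → x = y := fun x y h =>
    (inv_mul_eq_one.mp (hB _ fun b hb => by
      obtain ⟨j, hj, rfl⟩ := hB₁ b hb
      rw [map_mul, map_inv, Equiv.Perm.mul_apply, ← h j hj]; simp))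
  refine ⟨s, eqs_append (fun e he => h4 _ _ fun j hj => ?_) fun e he => ?_, ?_⟩
  · rw [h3 _ (hc.2.1 e he).1 j (hc.1 j hj), h3 _ (hc.2.1 e he).2 j (hc.1 j hj), hE e he]
  · obtain ⟨e, he', rfl⟩ := List.mem_map.mp he
    obtain ⟨c1, c2, c3, c4, c5⟩ := hc.2.2 e he'
    have h5 := (lall_eq _ _).mp hY e he'
    unfold stB at h5
    rw [frc_eq, band_eq, allN_eq] at h5
    refine h4 _ _ fun j hj => ?_
    have h6 := TrP.eq (fun k _ hk => h5.2 k hk) hS hS ⟨le_rfl, hm⟩ (hc.1 j hj) (c5 j hj)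
    have h7 := (inv_of_invS hS h5.1 (ev_mem_genW (List.mem_singleton_self _)) j).mpr
      ⟨hc.1 j hj, c5 j hj⟩
    simp only [ev_cons, ev_append, ev_nil, mul_one, Equiv.Perm.mul_apply, map_mul] at h6 ⊢
    rw [h3 _ c3 j (hc.1 j hj), hs' _ c1 c2 _ h7.1 h7.2, hs' _ c1 c2 j (hc.1 j hj) (c5 j hj),
      h3 _ c4 _ (Bd.lt (hS.sig_mem _) (hc.1 j hj)), h6]
  · have h5 : gen t n ≤ K := gen_le.mpr hs
    refine (card_gen_map h5 (MonoidHom.fst _ _) fun x hx h => ?_).trans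
      (card_gen_map h5 (MonoidHom.snd _ _) fun x hx h => ?_).symm
    · refine Prod.ext h (Equiv.ext fun j => (Nat.lt_or_ge j m).elim (fun hj => ?_) (hx.1 j))
      have := hx.2 j hj
      rw [show x.1 = 1 from h, map_one] at this
      exact (r.injective this).symm
    · refine Prod.ext (h4 _ _ fun j hj => ?_) h
      rw [hx.2 j (hc.1 j hj), show x.2 = 1 from h]; simp

/-- the letter `0` sends the first components to the second ones -/
noncomputable def labOK (T : List Net) (Z : List (Nat × Nat)) : Bool :=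
  lall (fun z => Nat.beq (Nat.land (Nat.shiftRight (runW (nat_lit 1) T [0] (pt z.2)) z.1)
    (nat_lit 1)) (nat_lit 1)) Z

theorem lab_of {N : ℕ} {ρ : Net} {T : List Net} (hT : TOK N (ρ :: T)) {Z : List (ℕ × ℕ)}
    (h : labOK (ρ :: T) Z = true) (hN : ∀ z ∈ Z, z.1 < N) :
    ∀ b ∈ Z.map Prod.snd, ∃ j ∈ Z.map Prod.fst, ρ.perm j = b := fun b hb => by
  obtain ⟨z, hz, rfl⟩ := List.mem_map.mp hb
  refine ⟨z.1, List.mem_map_of_mem hz, ?_⟩
  have := apply_eq_of hT (hN z hz) ((lall_eq _ _).mp h z hz)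
  rwa [ev_single] at this

theorem mem_even {s : ℕ → G} {L n L' : ℕ} {T : List Net} {φ : G →* Equiv.Perm ℕ}
    (h : Rep s L n T φ) {O : List ℕ} {ε : G →* ℤˣ} (hs : IsSign s L O ε)
    {E : List (List ℕ × List ℕ)} (hE : ∀ e ∈ E, ev (sig T) e.1 = ev (sig T) e.2)
    (hE' : ∀ e ∈ E, ev (sgn O) e.1 = ev (sgn O) e.2)
    (hc : defsOK L' E (fun x => Nat.ble (Nat.succ x) L) = true) {u : List ℕ}
    (hu : (∀ x ∈ u, x < L') ∧ ev (sgn O) u = 1) :
    ev (sig T) u ∈ (φ.comp ε.ker.subtype).range := by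
  let t : ℕ → Equiv.Perm ℕ × ℤˣ := fun x => (sig T x, sgn O x)
  have e : ∀ w, ev t w = (ev (sig T) w, ev (sgn O) w) := fun w =>
    Prod.ext (map_ev t (MonoidHom.fst _ _) w) (map_ev t (MonoidHom.snd _ _) w)
  have h1 := mem_of_defsOK (t := t) (K := (φ.prod ε).range)
    (fun x hx => by rw [e, e, hE x hx, hE' x hx]) _ (fun x hx => ⟨s x, Prod.ext
      (h.map x (Nat.le_of_ble_eq_true hx)) (hs x (Nat.le_of_ble_eq_true hx))⟩) hc
  obtain ⟨g, hg⟩ := ev_mem (s := t) fun x hx => h1 x (hu.1 x hx)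
  rw [e] at hg
  exact ⟨⟨g, (congrArg Prod.snd hg).trans hu.2⟩, congrArg Prod.fst hg⟩

end Cfsg.Agent.Schur
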