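import Cfsg.Agent.Schur.Prod
import Cfsg.Agent.Leech.OutGen
import Cfsg.Agent.Leech.Simple

/-!
Recognition of simple presented groups as groups of automorphisms of the Leech lattice.
-/

set_option autoImplicit false

namespace Cfsg.Agent.Schur

open Cfsg.Agent.Comp Cfsg.Agent.Leech Subgroup
open Cfsg.Agent.Golay (force force_eq In)
open scoped commutatorElement

/-- the code of the value of a word -/
noncomputable def evc (cs w : List ℕ) : ℕ :=
  List.rec (motive := fun _ => ℕ) gone (fun x _ ih => force ih (gmul (cs.getD x 0))) w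

theorem gc_ev {cs : List ℕ} {t : ℕ → Co0} {w : List ℕ} (h : ∀ x ∈ w, gc (t x) = cs.getD x 0) :
    gc (ev t w) = evc cs w := by
  induction w with
  | nil => exact gc_one
  | cons a w ih =>
    rw [ev_cons, ← gmul_gc, h a (by simp), ih fun x hx => h x (by simp [hx])]
    exact (force_eq _ _).symm

theorem exists_letters {H : Subgroup Co0} {cs : List ℕ} (h : In gc H cs) :
    ∃ t : ℕ → H, ∀ x < cs.length, gc (t x) = cs.getD x 0 := by
  have : ∀ x, ∃ g : H, x < cs.length → gc g = cs.getD x 0 := fun x => by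
    by_cases hx : x < cs.length
    · obtain ⟨g, h1, h2⟩ := h cs[x] (List.getElem_mem hx)
      exact ⟨⟨g, h1⟩, fun _ => by rw [List.getD_eq_getElem _ _ hx]; exact h2⟩
    · exact ⟨1, fun h => absurd h hx⟩
  choose t ht using this
  exact ⟨t, ht⟩

theorem finite_co0 : Finite Co0 := Nat.finite_of_card_ne_zero (by rw [card_Co0]; norm_num)

variable {G₀ : Type} [Group G₀] [IsSimpleGroup G₀] {s : ℕ → G₀} {L : ℕ} {R : List (List ℕ)}
  {cs : List ℕ}

theorem equiv_leech {H : Subgroup Co0} (h : IsPres s L R) (hR : ∀ w ∈ R, ∀ x ∈ w, x < L)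
    (hin : In gc H cs) (hL : cs.length = L ∧ 0 < L ∧ cs.getD 0 0 ≠ gone)
    (hs : ∀ w ∈ R, evc cs w = gone) (hc : Nat.card H ≤ Nat.card G₀) : Nonempty (G₀ ≃* H) := by
  have := finite_co0
  obtain ⟨rfl, h1, h2⟩ := hL
  obtain ⟨t, ht⟩ := exists_letters hin
  refine equiv_of_sat h hR t (fun w hw => Subtype.ext (gc_injective ?_)) h1 (fun e => h2 ?_) hc
  · exact ((congrArg gc (map_ev t H.subtype w)).trans
      (gc_ev fun x hx => ht x (hR w hw x hx))).trans ((hs w hw).trans gc_one.symm)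
  · rw [← ht 0 h1, e]; exact gc_one

theorem equiv_co1 (h : IsPres s L R) (hR : ∀ w ∈ R, ∀ x ∈ w, x < L) (hin : In gc ⊤ cs)
    (hL : cs.length = L ∧ 0 < L ∧ cs.getD 0 0 ≠ gone ∧ cs.getD 0 0 ≠ gneg)
    (hs : ∀ w ∈ R, force (evc cs w) (fun v => Nat.mul (Nat.xor v gone) (Nat.xor v gneg)) = 0)
    (hc : 4157776806543360000 ≤ Nat.card G₀) : Nonempty (G₀ ≃* Spor.Co1) := by
  have := finite_co0
  obtain ⟨rfl, h1, h2, h3⟩ := hL
  obtain ⟨t, ht⟩ := exists_letters hin
  refine equiv_of_sat h hR (fun x => QuotientGroup.mk' _ (t x : Co0)) (fun w hw => ?_) h1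
    (fun e => ?_) (card_co1.le.trans hc)
  · rw [← map_ev]
    refine (QuotientGroup.eq_one_iff _).mpr ((Leech.mem_center_iff _).mpr ?_)
    have h4 := hs w hw
    rw [force_eq, ← gc_ev fun x hx => ht x (hR w hw x hx), ← gc_one, ← gc_negCo] at h4
    exact (Nat.mul_eq_zero.mp h4).imp (fun e => gc_injective (Golay.xor_eq_zero' e))
      fun e => gc_injective (Golay.xor_eq_zero' e)
  · rcases (Leech.mem_center_iff _).mp ((QuotientGroup.eq_one_iff _).mp e) with e | e
    · exact h2 (by rw [← ht 0 h1, e, gc_one])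
    · exact h3 (by rw [← ht 0 h1, e, gc_negCo])

theorem low_co1 {a b : ℕ} (h : errM a = 0 ∧ errM b = 0 ∧ gmul a b = gmul gneg (gmul b a)) :
    Low Spor.Co1 2 := by
  have := finite_co0
  have h1 : tg a * tg b = negCo * (tg b * tg a) := gc_injective (by
    rw [← gmul_gc, ← gmul_gc, ← gmul_gc, gc_tg h.1, gc_tg h.2.1, gc_negCo, h.2.2])
  refine low_of_stem (σ := QuotientGroup.mk' (center Co0))
    ⟨QuotientGroup.mk'_surjective _, (QuotientGroup.ker_mk' _).le, fun x hx => ?_⟩
    (by rw [QuotientGroup.ker_mk', card_center])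
  rw [QuotientGroup.ker_mk'] at hx
  rcases (Leech.mem_center_iff _).mp hx with rfl | rfl
  · exact one_mem _
  · have h2 : negCo = ⁅tg a, tg b⁆ := by rw [commutatorElement_def, h1]; group
    rw [h2]
    exact commutator_mem_commutator (mem_top _) (mem_top _)

end Cfsg.Agent.Schur
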